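import Cfsg.Agent.Lib.Helper5.F11.H17.FrCDefs
import Cfsg.Agent.Lib.Helper5.F11.H6.FrCA6

/-!
# CORE13 (S5679 + S5696), leaf A7 `allB_seven` (helper17's market, notes/S5679_core_leaves.lean)
-/

set_option autoImplicit false
set_option linter.unusedSectionVars false
set_option linter.unusedVariables false
set_option linter.unusedSimpArgs false

namespace Cfsg.Agent.Lib.Helper5.F11.H6.FrCLeaf

open Module QuadraticMap Matrix Cfsg.Agent.Lib.Helper25.CD Cfsg.Agent.Lib.Helper25.Spin
  Cfsg.Agent.Lib.Helper5.NSMax Cfsg.Agent.Lib.Helper5.PairMax Cfsg.Agent.Lib.Helper17.OC2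
  Cfsg.Agent.Lib.Helper29.FrStd Cfsg.Agent.Lib.Helper11.Mono Cfsg.Agent.Lib.Helper5.F11.H17.FrC

variable {κ : Type} [Fintype κ] [DecidableEq κ] {F : Type*} [Field F] [Fintype F]
  {c : F} {M : Subgroup ↥(Cfsg.isometryGroup F ⇑(stdQ κ F c))}

/-- a root has no zero-sum subset of its support (from `h0` and `unit`). -/
lemma zero_sum_contra {R : (κ → F) → Prop} (hS : Sys R)
    (h0 : ∀ b, R b → ∀ T : Finset κ, (∃ l ∈ T, b l ≠ 0) → (∃ l, l ∉ T ∧ b l ≠ 0) → ∑ l ∈ T, b l ^ 2 ≠ 0)
    {a : κ → F} (ha : R a) (T : Finset κ) (hT : ∃ l ∈ T, a l ≠ 0) (hsum : ∑ l ∈ T, a l ^ 2 = 0) :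
    False := by
  by_cases hc : ∃ l, l ∉ T ∧ a l ≠ 0
  · exact h0 a ha T hT hc hsum
  · push Not at hc
    have h1 : a ⬝ᵥ a = ∑ l ∈ T, a l ^ 2 := by
      unfold dotProduct
      rw [← Finset.sum_subset (Finset.subset_univ T)]
      · apply Finset.sum_congr rfl
        intro l _
        ring
      · intro l _ hl
        rw [hc l hl, mul_zero]
    rw [hS.unit a ha, hsum] at h1
    exact one_ne_zero h1

theorem arith_seven (j k : ℕ) (hjk : j + k ≤ 11) (h : (2 * j + 4 * k) % 7 = 1) :
    (j = 0 ∧ k = 2) ∨ (j = 2 ∧ k = 1) ∨ (j = 4 ∧ k = 0) ∨ 7 ≤ j ∨ 7 ≤ k ∨ (1 ≤ j ∧ 3 ≤ k) ∨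
      (3 ≤ j ∧ 2 ≤ k) ∨ (5 ≤ j ∧ 1 ≤ k) := by
  omega

/-- A7 (`p = 7`). -/
theorem allB_seven (h7 : Fintype.card F = 7) (hκ : Fintype.card κ = 11) {R : (κ → F) → Prop} (hS : Sys R)
    (hpm : ∀ (a : κ → F) (m : κ), R a → (a m = 1 ∨ a m = -1) → a = e m ∨ a = -e m)
    (h0 : ∀ b, R b → ∀ T : Finset κ, (∃ l ∈ T, b l ≠ 0) → (∃ l, l ∉ T ∧ b l ≠ 0) → ∑ l ∈ T, b l ^ 2 ≠ 0)
    (h3 : ∀ T : Finset κ, T.card = 3 → ∀ x, R x → x ∈ VT T → IsB x) :
    ∀ a, R a → IsB a := by
  classical
  have : Fact (Nat.Prime 7) := ⟨by norm_num⟩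
  have hch : CharP F 7 := charP_of_card_eq_prime h7
  have seven : (7 : F) = 0 := by
    have := (CharP.cast_eq_zero_iff F 7 7).2 (dvd_refl 7)
    exact_mod_cast this
  have two_ne : (2 : F) ≠ 0 := by
    intro h
    have h1 : ((2 : ℕ) : F) = 0 := by exact_mod_cast h
    rw [CharP.cast_eq_zero_iff F 7] at h1
    omega
  have hval : ∀ x : F, x ≠ 0 → x ^ 2 = 1 ∨ x ^ 2 = 2 ∨ x ^ 2 = 4 := by
    intro x hx
    have h6 : x ^ 6 = 1 := by
      have := FiniteField.pow_card_sub_one_eq_one x hx
      rwa [h7] at this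
    have : (x ^ 2 - 1) * ((x ^ 2 - 2) * (x ^ 2 - 4)) = 0 := by
      linear_combination h6 - (x ^ 4 - 2 * x ^ 2 + 1) * seven
    rcases mul_eq_zero.1 this with h | h
    · exact Or.inl (sub_eq_zero.1 h)
    · rcases mul_eq_zero.1 h with h | h
      · exact Or.inr (Or.inl (sub_eq_zero.1 h))
      · exact Or.inr (Or.inr (sub_eq_zero.1 h))
  intro a ha
  by_cases hm : ∃ m, a m = 1 ∨ a m = -1
  · obtain ⟨m, hm⟩ := hm
    exact Or.inl ⟨m, hpm a m ha hm⟩
  · push Not at hm
    have hsq : ∀ l, a l ≠ 0 → a l ^ 2 = 2 ∨ a l ^ 2 = 4 := by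
      intro l hl
      rcases hval (a l) hl with h | h | h
      · exfalso
        have : (a l - 1) * (a l + 1) = 0 := by linear_combination h
        rcases mul_eq_zero.1 this with h' | h'
        · exact (hm l).1 (sub_eq_zero.1 h')
        · exact (hm l).2 (eq_neg_of_add_eq_zero_left h')
      · exact Or.inl h
      · exact Or.inr h
    set J : Finset κ := (supp a).filter (fun l => a l ^ 2 = 2) with hJ
    set K : Finset κ := (supp a).filter (fun l => a l ^ 2 = 4) with hK
    have hJs : ∀ l ∈ J, a l ^ 2 = 2 := fun l hl => (Finset.mem_filter.1 hl).2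
    have hKs : ∀ l ∈ K, a l ^ 2 = 4 := fun l hl => (Finset.mem_filter.1 hl).2
    have hJsub : J ⊆ supp a := Finset.filter_subset _ _
    have hKsub : K ⊆ supp a := Finset.filter_subset _ _
    have hdisj : Disjoint J K := by
      rw [Finset.disjoint_left]
      intro l hl hl'
      have h1 := hJs l hl
      have h2 := hKs l hl'
      rw [h1] at h2
      apply two_ne
      linear_combination (-1 : F) * h2
    have hunion : supp a = J ∪ K := by
      ext l
      rw [Finset.mem_union, hJ, hK, Finset.mem_filter, Finset.mem_filter]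
      constructor
      · intro hl
        rcases hsq l (mem_supp.1 hl) with h | h
        · exact Or.inl ⟨hl, h⟩
        · exact Or.inr ⟨hl, h⟩
      · rintro (h | h)
        · exact h.1
        · exact h.1
    -- no zero-sum pattern
    have key : ∀ j' k' : ℕ, j' ≤ J.card → k' ≤ K.card → 0 < j' + k' →
        ((j' : F) * 2 + (k' : F) * 4 = 0) → False := by
      intro j' k' hj hk hpos hz
      obtain ⟨J', hJ', hJc⟩ := Finset.exists_subset_card_eq hj
      obtain ⟨K', hK', hKc⟩ := Finset.exists_subset_card_eq hk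
      have hd : Disjoint J' K' := Finset.disjoint_of_subset_left hJ' (Finset.disjoint_of_subset_right hK' hdisj)
      apply zero_sum_contra hS h0 ha (J' ∪ K')
      · have hne : (J' ∪ K').Nonempty := by
          rw [← Finset.card_pos, Finset.card_union_of_disjoint hd, hJc, hKc]
          exact hpos
        obtain ⟨l, hl⟩ := hne
        refine ⟨l, hl, ?_⟩
        rcases Finset.mem_union.1 hl with h | h
        · exact mem_supp.1 (hJsub (hJ' h))
        · exact mem_supp.1 (hKsub (hK' h))
      · rw [Finset.sum_union hd, sum_sq_eq_card_smul J' (fun l hl => hJs l (hJ' hl)),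
          sum_sq_eq_card_smul K' (fun l hl => hKs l (hK' hl)), hJc, hKc]
        exact hz
    have hunit := hS.unit a ha
    rw [dot_self_eq_sum_supp, hunion, Finset.sum_union hdisj, sum_sq_eq_card_smul J hJs,
      sum_sq_eq_card_smul K hKs] at hunit
    have hmod : (2 * J.card + 4 * K.card) % 7 = 1 := by
      have h1 : ((2 * J.card + 4 * K.card : ℕ) : F) = ((1 : ℕ) : F) := by
        push_cast
        linear_combination hunit
      rw [CharP.natCast_eq_natCast F 7] at h1
      exact h1
    have hle : J.card + K.card ≤ 11 := by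
      rw [← Finset.card_union_of_disjoint hdisj, ← hunion, ← hκ]
      exact Finset.card_le_univ _
    have hcs : (supp a).card = J.card + K.card := by
      rw [hunion, Finset.card_union_of_disjoint hdisj]
    rcases arith_seven J.card K.card hle hmod with ⟨hj, hk⟩ | ⟨hj, hk⟩ | ⟨hj, hk⟩ | hj | hk | ⟨hj, hk⟩ |
      ⟨hj, hk⟩ | ⟨hj, hk⟩
    · -- type `B`
      obtain ⟨i, j, hij, hKe⟩ := Finset.card_eq_two.1 hk
      have hJe : J = ∅ := Finset.card_eq_zero.1 hj
      have hi : i ∈ K := by rw [hKe]; exact Finset.mem_insert_self _ _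
      have hj' : j ∈ K := by rw [hKe]; exact Finset.mem_insert_of_mem (Finset.mem_singleton_self _)
      refine Or.inr ⟨i, j, hij, ?_, ?_, ?_⟩
      · rw [hKs i hi]
        linear_combination seven
      · rw [hKs j hj']
        linear_combination seven
      · intro l hli hlj
        by_contra hl
        have : l ∈ supp a := mem_supp.2 hl
        rw [hunion, hJe, Finset.empty_union, hKe, Finset.mem_insert, Finset.mem_singleton] at this
        rcases this with h | h
        · exact hli h
        · exact hlj h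
    · -- support of size three
      apply h3 (supp a) (by rw [hcs, hj, hk]) a ha
      intro l hl
      by_contra h
      exact hl (mem_supp.2 h)
    · -- the overlap copy
      exfalso
      have h4 : (supp a).card = 4 := by rw [hcs, hj, hk]
      have hKe : K = ∅ := Finset.card_eq_zero.1 hk
      have hsq2 : ∀ l, a l ≠ 0 → a l ^ 2 = 2 := by
        intro l hl
        have : l ∈ supp a := mem_supp.2 hl
        rw [hunion, hKe, Finset.union_empty] at this
        exact hJs l this
      obtain ⟨b, s1, s2, s3, s4, c1, c2, c3, hb, hnd, hmem, b1, b2, b3, b4, bc1, bc2, bc3, bz, hdot⟩ :=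
        overlap_copy hκ hS ha h4
      simp only [List.nodup_cons, List.mem_cons, List.not_mem_nil, or_false, not_or, List.nodup_nil,
        and_true, not_false_eq_true] at hnd
      obtain ⟨⟨h12, h13, h14, p1, q1, r1⟩, ⟨h23, h24, p2, q2, r2⟩, ⟨h34, p3, q3, r3⟩, ⟨p4, q4, r4⟩,
        ⟨k12, k13⟩, k23⟩ := hnd
      have as1 : a s1 ≠ 0 := (hmem s1).2 (Or.inl rfl)
      have as2 : a s2 ≠ 0 := (hmem s2).2 (Or.inr (Or.inl rfl))
      have as3 : a s3 ≠ 0 := (hmem s3).2 (Or.inr (Or.inr (Or.inl rfl)))
      have az : ∀ l, l ≠ s1 → l ≠ s2 → l ≠ s3 → l ≠ s4 → a l = 0 := by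
        intro l l1 l2 l3 l4
        by_contra h
        rcases (hmem l).1 h with h | h | h | h
        · exact l1 h
        · exact l2 h
        · exact l3 h
        · exact l4 h
      have ac1 : a c1 = 0 := az c1 (Ne.symm p1) (Ne.symm p2) (Ne.symm p3) (Ne.symm p4)
      have ac2 : a c2 = 0 := az c2 (Ne.symm q1) (Ne.symm q2) (Ne.symm q3) (Ne.symm q4)
      have hdot' : a ⬝ᵥ b = 2 := by rw [hdot, ← hsq2 s1 as1]; ring
      have hR' := hS.refl a b ha hb
      rw [hdot'] at hR'
      have v1 : (a - (2 * (2 : F)) • b) s1 = -3 * a s1 := by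
        simp only [Pi.sub_apply, Pi.smul_apply, smul_eq_mul, b1]
        ring
      have v2 : (a - (2 * (2 : F)) • b) s2 = a s2 := by
        simp only [Pi.sub_apply, Pi.smul_apply, smul_eq_mul, b2]
        ring
      have v3 : (a - (2 * (2 : F)) • b) s3 = a s3 := by
        simp only [Pi.sub_apply, Pi.smul_apply, smul_eq_mul, b3]
        ring
      have w1 : (a - (2 * (2 : F)) • b) c1 = -4 * a s3 := by
        simp only [Pi.sub_apply, Pi.smul_apply, smul_eq_mul, ac1, bc1]
        ring
      have w2 : (a - (2 * (2 : F)) • b) c2 = -4 * a s2 := by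
        simp only [Pi.sub_apply, Pi.smul_apply, smul_eq_mul, ac2, bc2]
        ring
      have hT1 : s1 ∉ insert s2 (insert c1 ({c2} : Finset κ)) := by
        simp only [Finset.mem_insert, Finset.mem_singleton, not_or]
        exact ⟨h12, p1, q1⟩
      have hT2 : s2 ∉ insert c1 ({c2} : Finset κ) := by
        simp only [Finset.mem_insert, Finset.mem_singleton, not_or]
        exact ⟨p2, q2⟩
      have hT3 : c1 ∉ ({c2} : Finset κ) := by
        simp only [Finset.mem_singleton]
        exact k12
      apply h0 _ hR' (insert s1 (insert s2 (insert c1 ({c2} : Finset κ))))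
      · refine ⟨s1, Finset.mem_insert_self _ _, ?_⟩
        rw [v1]
        intro h
        have h9 : (-3 * a s1) ^ 2 = 0 := by rw [h]; ring
        have := hsq2 s1 as1
        apply two_ne
        linear_combination (-3 : F) * (h9 - 9 * this) + 8 * seven
      · refine ⟨s3, ?_, ?_⟩
        · simp only [Finset.mem_insert, Finset.mem_singleton, not_or]
          exact ⟨Ne.symm h13, Ne.symm h23, p3, q3⟩
        · rw [v3]; exact as3
      · rw [Finset.sum_insert hT1, Finset.sum_insert hT2, Finset.sum_insert hT3, Finset.sum_singleton,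
          v1, v2, w1, w2]
        have e1 := hsq2 s1 as1
        have e2 := hsq2 s2 as2
        have e3 := hsq2 s3 as3
        linear_combination 9 * e1 + 17 * e2 + 16 * e3 + 12 * seven
    · exact (key 7 0 hj (Nat.zero_le _) (by norm_num) (by push_cast; linear_combination 2 * seven)).elim
    · exact (key 0 7 (Nat.zero_le _) hk (by norm_num) (by push_cast; linear_combination 4 * seven)).elim
    · exact (key 1 3 hj hk (by norm_num) (by push_cast; linear_combination 2 * seven)).elim
    · exact (key 3 2 hj hk (by norm_num) (by push_cast; linear_combination 2 * seven)).elim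
    · exact (key 5 1 hj hk (by norm_num) (by push_cast; linear_combination 2 * seven)).elim

end Cfsg.Agent.Lib.Helper5.F11.H6.FrCLeaf
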